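import Groth.Agent.ArtLib.CRingHom

set_option autoImplicit false
universe u v

open CategoryTheory

namespace Groth.Agent.ArtUniqueLib

open ArtFun ArtFun.Art ArtLib

variable {k : Type u} [Field k] {F : Art k k ⥤ Type v}

theorem along_app_eq {R : CRing k k} (ξ : Family R.carrier R.res F) {S : CRing k k}
    (g₁ g₂ : R.carrier →ₐ[k] S.carrier) (hg₁ : S.res.comp g₁ = R.res) (hg₂ : S.res.comp g₂ = R.res)
    (h : (ξ.along g₁ hg₁).toFormalElt = (ξ.along g₂ hg₂).toFormalElt)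
    (A : Art k k) (ψ : HomSet S.carrier S.res A) :
    ξ.app A ⟨ψ.1.comp g₁, by rw [← AlgHom.comp_assoc, ψ.2, hg₁]⟩ =
      ξ.app A ⟨ψ.1.comp g₂, by rw [← AlgHom.comp_assoc, ψ.2, hg₂]⟩ :=
  congrFun (congrFun (congrArg Family.app (toFormalElt_injective S F h)) A) ψ

theorem universal_unique (R : CRing k k) (ξ : Family R.carrier R.res F) (hξ : IsUniversal ξ)
    (S : CRing k k) (g₁ g₂ : R.carrier →ₐ[k] S.carrier)
    (hg₁ : S.res.comp g₁ = R.res) (hg₂ : S.res.comp g₂ = R.res)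
    (h : (ξ.along g₁ hg₁).toFormalElt = (ξ.along g₂ hg₂).toFormalElt) : g₁ = g₂ := by
  refine cring_hom_ext S fun n s => ?_
  exact AlgHom.congr_fun (congrArg Subtype.val
    ((hξ _).1 (along_app_eq ξ g₁ g₂ hg₁ hg₂ h _ (S.truncHom n)))) s

theorem miniversal_unique_one (R : CRing k k) (ξ : Family R.carrier R.res F) (hξ : IsMiniversal ξ)
    (S : CRing k k) (g₁ g₂ : R.carrier →ₐ[k] S.carrier)
    (hg₁ : S.res.comp g₁ = R.res) (hg₂ : S.res.comp g₂ = R.res)
    (h : (ξ.along g₁ hg₁).toFormalElt = (ξ.along g₂ hg₂).toFormalElt) :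
    (S.truncHom 1).1.comp g₁ = (S.truncHom 1).1.comp g₂ := by
  have hsq : IsLocalRing.maximalIdeal (S.trunc 1) ^ 2 = ⊥ := by
    rw [eq_bot_iff, sq]
    refine Ideal.mul_le.2 fun a ha b hb => ?_
    obtain ⟨x, rfl⟩ := truncHom_surjective S 1 a
    obtain ⟨y, rfl⟩ := truncHom_surjective S 1 b
    rw [Art.mem_maximalIdeal_iff] at ha hb
    rw [Ideal.mem_bot, ← map_mul, truncHom_eq_zero, pow_two]
    exact Ideal.mul_mem_mul ((cring_res_mem x).2 ((homSet_res (S.truncHom 1) x).symm.trans ha))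
      ((cring_res_mem y).2 ((homSet_res (S.truncHom 1) y).symm.trans hb))
  let σ : base k k ⟶ S.trunc 1 := homMk (Algebra.ofId k (S.trunc 1)) (AlgHom.ext fun c => (S.trunc 1).res.commutes c)
  obtain ⟨n, e, he, -⟩ := exists_tz_iso σ hsq
  have := (isIso_iff_bijective e).2 he
  refine AlgHom.ext fun r => ?_
  apply ((isIso_iff_bijective (inv e)).1 inferInstance).1
  have hd : ∀ f : (Fin n → k) →ₗ[k] k,
      toD f (inv e ((S.truncHom 1).1 (g₁ r))) = toD f (inv e ((S.truncHom 1).1 (g₂ r))) := fun f =>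
    AlgHom.congr_fun (congrArg Subtype.val
      (hξ.2.1 (along_app_eq ξ g₁ g₂ hg₁ hg₂ h _ (HomSet.map (inv e ≫ toD f) (S.truncHom 1))))) r
  have h0 := congrArg TrivSqZeroExt.fst (hd 0)
  exact TrivSqZeroExt.ext h0 (funext fun i => congrArg TrivSqZeroExt.snd (hd (LinearMap.proj i)))

end Groth.Agent.ArtUniqueLib
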